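import Groth.Agent.MonoFibLib.Basic
import Groth.Agent.RichLib.FibreCrit

/-!
The fibrewise criterion.
-/

set_option autoImplicit false

universe u

open AlgebraicGeometry CategoryTheory Limits

namespace Groth.Agent.MonoFib

theorem mono_of_mono_fibres {X Y : Scheme.{u}} (f : X ⟶ Y) [LocallyOfFiniteType f]
    (h : ∀ y : Y, Mono (f.fiberToSpecResidueField y)) : Mono f := by
  haveI : FormallyUnramified f := RichLib.FibreCrit.formallyUnramified_of_fibers f fun y =>
    haveI := h y
    formallyUnramified_of_mono _
  haveI : UniversallyInjective f := universallyInjective_of_mono_fibres f h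
  haveI : Surjective (pullback.diagonal f) := (UniversallyInjective.iff_diagonal f).mp ‹_›
  haveI : IsIso (pullback.diagonal f) := by
    rw [isIso_iff_isOpenImmersion_and_surjective]
    exact ⟨inferInstance, inferInstance⟩
  exact (pullback.isIso_diagonal_iff f).mp inferInstance

end Groth.Agent.MonoFib
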