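import Mathlib

/-!
Monomorphisms are detected on fibres.
-/

set_option autoImplicit false

universe u

open AlgebraicGeometry CategoryTheory Limits

namespace Groth.Agent.MonoFib

theorem formallyUnramified_of_mono {X Y : Scheme.{u}} (f : X ⟶ Y) [Mono f] : FormallyUnramified f := by
  haveI : IsIso (pullback.diagonal f) := (pullback.isIso_diagonal_iff f).2 inferInstance
  infer_instance

theorem mono_fiberToSpecResidueField {X Y : Scheme.{u}} (f : X ⟶ Y) [Mono f] (y : Y) :
    Mono (f.fiberToSpecResidueField y) :=
  show Mono (pullback.snd f (Y.fromSpecResidueField y)) from inferInstance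

theorem universallyInjective_of_mono_fibres {X Y : Scheme.{u}} (f : X ⟶ Y)
    (h : ∀ y : Y, Mono (f.fiberToSpecResidueField y)) : UniversallyInjective f := by
  have htfae := (tfae_universallyInjective f).out 0 1
  rw [htfae]
  intro K _ g₁ g₂ hg
  replace hg : g₁ ≫ f = g₂ ≫ f := hg
  let z := (g₁ ≫ f) (IsLocalRing.closedPoint K)
  let ι := Y.descResidueField (Scheme.stalkClosedPointTo (g₁ ≫ f))
  have hι : Spec.map ι ≫ Y.fromSpecResidueField z = g₁ ≫ f :=
    Scheme.descResidueField_stalkClosedPointTo_fromSpecResidueField K Y _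
  let b₁ : Spec (.of K) ⟶ pullback f (Y.fromSpecResidueField z) := pullback.lift g₁ (Spec.map ι) hι.symm
  let b₂ : Spec (.of K) ⟶ pullback f (Y.fromSpecResidueField z) :=
    pullback.lift g₂ (Spec.map ι) (hg.symm.trans hι.symm)
  haveI : Mono (pullback.snd f (Y.fromSpecResidueField z)) := h z
  have hb : b₁ = b₂ := (cancel_mono (pullback.snd f (Y.fromSpecResidueField z))).mp
    ((pullback.lift_snd ..).trans (pullback.lift_snd ..).symm)
  exact (pullback.lift_fst ..).symm.trans
    ((congrArg (· ≫ pullback.fst f (Y.fromSpecResidueField z)) hb).trans (pullback.lift_fst ..))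

end Groth.Agent.MonoFib
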